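import Cfsg.Agent.H784.TF.Ess

/-!
# S5262: invariance of `nx`, of centralizers and of commutator subgroups (helper595)
-/

set_option autoImplicit false
set_option linter.dupNamespace false

namespace Cfsg.Agent.H595.TF

open Cfsg Cfsg.FusionSystem Cfsg.Agent.H756.PU Cfsg.Agent.H784.TF

universe u

variable {Ω : Type u} [Group Ω] {S E : Subgroup Ω} {p : ℕ} {Γ : Subgroup (MulAut E)}

/-- invariant subgroups are normal -/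
theorem conj_mem (h : Ess S E p Γ) {N : Subgroup Ω} (hN : Inv Γ N) {e n : Ω} (he : e ∈ E) (hn : n ∈ N) :
    e * n * e⁻¹ ∈ N := by
  have h1 : MulAut.conj (⟨e, he⟩ : E) ∈ Γ := h.indu (Subgroup.subset_closure ⟨e, h.E_le he, fun _ => rfl⟩)
  exact hN.2 _ h1 ⟨n, hN.1 hn⟩ hn

/-- the elements of `E` which are central of order at most `2` modulo `N` -/
def K (h : Ess S E p Γ) {N : Subgroup Ω} (hN : Inv Γ N) : Subgroup Ω where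
  carrier := {x | x ∈ E ∧ x ^ 2 ∈ N ∧ ∀ r ∈ E, x * r * x⁻¹ * r⁻¹ ∈ N}
  one_mem' := ⟨E.one_mem, by simp [N.one_mem], fun r _ => by simp [N.one_mem]⟩
  mul_mem' := by
    rintro x y ⟨hx, hx2, hxr⟩ ⟨hy, hy2, hyr⟩
    refine ⟨E.mul_mem hx hy, ?_, fun r hr => ?_⟩
    · have h1 : x⁻¹ * (x * y * x⁻¹ * y⁻¹)⁻¹ * x⁻¹⁻¹ ∈ N := conj_mem h hN (E.inv_mem hx) (N.inv_mem (hxr y hy))
      have h2 : (x * y) ^ 2 = x ^ 2 * (x⁻¹ * (x * y * x⁻¹ * y⁻¹)⁻¹ * x⁻¹⁻¹) * y ^ 2 := by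
        simp only [pow_two]; group
      rw [h2]
      exact N.mul_mem (N.mul_mem hx2 h1) hy2
    · have h2 : x * y * r * (x * y)⁻¹ * r⁻¹ = (x * (y * r * y⁻¹ * r⁻¹) * x⁻¹) * (x * r * x⁻¹ * r⁻¹) := by group
      rw [h2]
      exact N.mul_mem (conj_mem h hN hx (hyr r hr)) (hxr r hr)
  inv_mem' := by
    rintro x ⟨hx, hx2, hxr⟩
    refine ⟨E.inv_mem hx, by rw [inv_pow]; exact N.inv_mem hx2, fun r hr => ?_⟩
    have h1 : x⁻¹ * (x * r * x⁻¹ * r⁻¹)⁻¹ * x⁻¹⁻¹ ∈ N := conj_mem h hN (E.inv_mem hx) (N.inv_mem (hxr r hr))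
    have h2 : x⁻¹ * r * x⁻¹⁻¹ * r⁻¹ = x⁻¹ * (x * r * x⁻¹ * r⁻¹)⁻¹ * x⁻¹⁻¹ := by group
    rw [h2]
    exact h1

theorem nx_eq (h : Ess S E p Γ) {N : Subgroup Ω} (hN : Inv Γ N) : nx E N = K h hN :=
  le_antisymm ((Subgroup.closure_le (K h hN)).mpr fun _ hx => hx) fun _ hx => Subgroup.subset_closure hx

theorem mem_nx (h : Ess S E p Γ) {N : Subgroup Ω} (hN : Inv Γ N) (x : Ω) :
    x ∈ nx E N ↔ x ∈ E ∧ x ^ 2 ∈ N ∧ ∀ r ∈ E, x * r * x⁻¹ * r⁻¹ ∈ N := by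
  rw [nx_eq h hN]
  exact Iff.rfl

theorem inv_nx (h : Ess S E p Γ) {N : Subgroup Ω} (hN : Inv Γ N) : Inv Γ (nx E N) := by
  refine ⟨fun x hx => ((mem_nx h hN x).mp hx).1, fun γ hγ e he => ?_⟩
  rw [mem_nx h hN] at he ⊢
  obtain ⟨-, h2, h3⟩ := he
  refine ⟨(γ e).2, ?_, fun r hr => ?_⟩
  · have h4 := hN.2 γ hγ (e ^ 2) h2
    rw [map_pow] at h4
    exact h4
  · have h4 := hN.2 γ hγ (e * (γ⁻¹ ⟨r, hr⟩) * e⁻¹ * (γ⁻¹ ⟨r, hr⟩)⁻¹) (h3 _ (γ⁻¹ ⟨r, hr⟩).2)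
    rw [map_mul, map_mul, map_mul, map_inv, map_inv, MulAut.apply_inv_self] at h4
    exact h4

theorem le_nx (h : Ess S E p Γ) {N : Subgroup Ω} (hN : Inv Γ N) : N ≤ nx E N := by
  intro n hn
  rw [mem_nx h hN]
  refine ⟨hN.1 hn, N.pow_mem hn 2, fun r hr => ?_⟩
  have h1 := N.mul_mem hn (conj_mem h hN hr (N.inv_mem hn))
  have h2 : n * r * n⁻¹ * r⁻¹ = n * (r * n⁻¹ * r⁻¹) := by group
  rw [h2]
  exact h1

theorem inv_cz {M N : Subgroup Ω} (hM : Inv Γ M) (hN : Inv Γ N) : Inv Γ (cz M N) := by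
  refine ⟨fun x hx => hM.1 hx.1, fun γ hγ e he => ⟨hM.2 γ hγ e he.1, ?_⟩⟩
  refine Subgroup.mem_centralizer_iff.mpr ?_
  intro n hn
  have h1 : ((γ⁻¹ ⟨n, hN.1 hn⟩ : E) : Ω) ∈ N := hN.2 γ⁻¹ (Γ.inv_mem hγ) _ hn
  have h2 : (γ⁻¹ ⟨n, hN.1 hn⟩ : E) * e = e * γ⁻¹ ⟨n, hN.1 hn⟩ :=
    Subtype.ext (Subgroup.mem_centralizer_iff.mp he.2 _ h1)
  have h3 := congrArg (fun z : E => ((γ z : E) : Ω)) h2
  simp only [map_mul, MulAut.apply_inv_self] at h3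
  exact h3

theorem inv_inf {M N : Subgroup Ω} (hM : Inv Γ M) (hN : Inv Γ N) : Inv Γ (N ⊓ M) :=
  ⟨fun _ hx => hM.1 hx.2, fun γ hγ e he => ⟨hN.2 γ hγ e he.1, hM.2 γ hγ e he.2⟩⟩

theorem inv_comG {M N : Subgroup Ω} (hM : Inv Γ M) (hN : Inv Γ N) : Inv Γ (comG N M) := by
  constructor
  · rw [comG, Subgroup.closure_le]
    rintro _ ⟨a, ha, m, hm, rfl⟩
    exact E.mul_mem (E.mul_mem (E.mul_mem (hN.1 ha) (hM.1 hm)) (E.inv_mem (hN.1 ha))) (E.inv_mem (hM.1 hm))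
  · intro γ hγ e he
    have h1 : comG N M ≤ (((comG N M).comap E.subtype).comap γ.toMonoidHom).map E.subtype := by
      conv_lhs => rw [comG]
      rw [Subgroup.closure_le]
      rintro _ ⟨a, ha, m, hm, rfl⟩
      refine ⟨⟨a, hN.1 ha⟩ * ⟨m, hM.1 hm⟩ * ⟨a, hN.1 ha⟩⁻¹ * ⟨m, hM.1 hm⟩⁻¹, ?_, rfl⟩
      show ((γ (⟨a, hN.1 ha⟩ * ⟨m, hM.1 hm⟩ * ⟨a, hN.1 ha⟩⁻¹ * ⟨m, hM.1 hm⟩⁻¹) : E) : Ω) ∈ comG N M
      rw [map_mul, map_mul, map_mul, map_inv, map_inv]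
      exact Subgroup.subset_closure ⟨_, hN.2 γ hγ ⟨a, hN.1 ha⟩ ha, _, hM.2 γ hγ ⟨m, hM.1 hm⟩ hm, rfl⟩
    obtain ⟨e', he', hee⟩ := h1 he
    have : e' = e := Subtype.ext hee
    rw [← this]
    exact he'

/-- **(NX)** -/
theorem stNx : StNx.{u} := by
  intro Ω _ S E Γ h
  have hE : Inv Γ E := ⟨le_rfl, fun γ _ e _ => (γ e).2⟩
  refine ⟨⟨bot_le, fun γ _ e he => ?_⟩, hE, fun N hN =>
    ⟨inv_nx h hN, le_nx h hN, mem_nx h hN, inv_cz hE hN, fun M hM => ⟨inv_comG hM hN, inv_inf hM hN, inv_cz hM hN⟩⟩⟩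
  have h1 : e = 1 := Subtype.ext (Subgroup.mem_bot.mp he)
  rw [h1, map_one]
  exact Subgroup.one_mem _

end Cfsg.Agent.H595.TF
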